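import Groth.Agent.Inters29.PrimeDiv
import Groth.Agent.Resolve13.StrictLength
import Groth.Agent.SDiv28.BlowUp
import Groth.Agent.S4808
import Mathlib.AlgebraicGeometry.Morphisms.FlatMono
import Mathlib.AlgebraicGeometry.Morphisms.Etale

/-!
# Split prime divisors of étale covers
-/

set_option autoImplicit false
set_option linter.style.haveILetI false
set_option backward.isDefEq.respectTransparency.types false

universe u

open CategoryTheory CategoryTheory.Limits AlgebraicGeometry TopologicalSpace
open Groth.Agent.Misc15.DivDescent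

namespace Groth.Agent.CSplit23

variable {X Y : Scheme.{u}}

theorem stk_ker_comp {Z W : Scheme.{u}} (i : Z ⟶ W) [IsOpenImmersion i] (j : W ⟶ Y) [IsClosedImmersion j]
    (k : Z ⟶ Y) [IsClosedImmersion k] (h : i ≫ j = k) (z : Z) :
    stk k.ker (k z) = stk j.ker (k z) := by
  subst h
  show stk (i ≫ j).ker ((i ≫ j) z) = stk j.ker (j (i z))
  rw [← Resolve13.ker_stalkMap_eq_stk, ← Resolve13.ker_stalkMap_eq_stk]
  refine Ideal.ext fun a => ?_
  show ((i ≫ j).stalkMap z).hom a = 0 ↔ (j.stalkMap (i z)).hom a = 0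
  have e : ((i ≫ j).stalkMap z).hom a = (i.stalkMap z).hom ((j.stalkMap (i z)).hom a) := by
    rw [Scheme.Hom.stalkMap_comp]; rfl
  exact ⟨fun h => (ConcreteCategory.bijective_of_isIso (i.stalkMap z)).1
      ((e.symm.trans h).trans (map_zero (i.stalkMap z).hom).symm),
    fun h => e.trans ((congrArg (i.stalkMap z).hom h).trans (map_zero _))⟩

theorem stk_eq_top_of_notMem (E : Y.IdealSheafData) {y : Y} (hy : y ∉ E.support) : stk E y = ⊤ := by
  by_contra h
  obtain ⟨_, ⟨U, hU, rfl⟩, hyU, -⟩ := Y.isBasis_affineOpens.exists_subset_of_mem_open (Set.mem_univ y) isOpen_univ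
  refine hy ((E.mem_support_iff_of_mem (U := ⟨U, hU⟩) hyU).2 ((Y.mem_zeroLocus_iff _ _).2 fun a ha hb => ?_))
  refine h (Ideal.eq_top_of_isUnit_mem _ ?_ ((Scheme.mem_basicOpen _ _ _ hyU).1 hb))
  rw [stk_eq E ⟨U, hU⟩ hyU]
  exact Ideal.mem_map_of_mem _ ha

/-- A closed subscheme of an étale cover mapping isomorphically onto an effective Cartier divisor is effective Cartier. -/
theorem isEffCartier_of_isIso [IsIntegral Y] [IsLocallyNoetherian Y] (f : Y ⟶ X) [Etale f] (D : X.IdealSheafData)
    (hD : BlowUp.IsEffCartierIdeal D) (E : Y.IdealSheafData) (g : E.subscheme ⟶ D.subscheme) [IsIso g]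
    (hg : g ≫ D.subschemeι = E.subschemeι ≫ f) : BlowUp.IsEffCartierIdeal E := by
  have hD' : BlowUp.IsEffCartierIdeal (D.comap f) := SDiv28.isEffCartier_comap_of_flat hD f
  let s : E.subscheme ⟶ pullback f D.subschemeι := pullback.lift E.subschemeι g hg.symm
  haveI : Etale (pullback.snd f D.subschemeι) :=
    MorphismProperty.pullback_snd _ _ ‹Etale f›
  haveI : Etale (s ≫ pullback.snd f D.subschemeι) := by
    rw [show s ≫ pullback.snd f D.subschemeι = g from pullback.lift_snd _ _ _]; infer_instance
  haveI : Etale s := Etale.of_comp s (pullback.snd f D.subschemeι)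
  haveI : Mono s := mono_of_mono_fac (show s ≫ pullback.fst f D.subschemeι = E.subschemeι from pullback.lift_fst _ _ _)
  haveI : IsOpenImmersion s := IsOpenImmersion.of_flat_of_mono s
  refine Inters29.isEffCartier_of_stk E fun y => ?_
  by_cases hy : y ∈ E.support
  · obtain ⟨e, rfl⟩ := E.range_subschemeι.ge hy
    have hfac : (s ≫ (D.comapIso f).inv) ≫ (D.comap f).subschemeι = E.subschemeι := by
      rw [Category.assoc, Scheme.IdealSheafData.comapIso_inv_subschemeι]
      exact pullback.lift_fst _ _ _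
    have h := stk_ker_comp (s ≫ (D.comapIso f).inv) (D.comap f).subschemeι E.subschemeι hfac e
    rw [Scheme.IdealSheafData.ker_subschemeι, Scheme.IdealSheafData.ker_subschemeι] at h
    obtain ⟨a, ha, hspan⟩ := exists_gen hD' (E.subschemeι e)
    rw [h, hspan]
    exact ⟨⟨⟨a, rfl⟩⟩, fun h0 => nonZeroDivisors.ne_zero ha (Ideal.span_singleton_eq_bot.1 h0)⟩
  · rw [stk_eq_top_of_notMem E hy]
    exact ⟨⟨⟨1, Ideal.span_singleton_one.symm⟩⟩, top_ne_bot⟩

theorem isIso_stalkMap_of_residueDegree {Z W : Scheme.{u}} [IsIntegral Z] [IsIntegral W] (g : Z ⟶ W)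
    (hgen : g (genericPoint Z) = genericPoint W) (h : g.residueDegree (genericPoint Z) = 1) :
    IsIso (g.stalkMap (genericPoint Z)) := by
  have hW : IsField (W.presheaf.stalk (g (genericPoint Z))) := by
    rw [hgen]; exact Field.toIsField W.functionField
  have hinj : Function.Injective (g.stalkMap (genericPoint Z)).hom :=
    letI := hW.toField
    RingHom.injective _
  have hZ : IsField (Z.presheaf.stalk (genericPoint Z)) := Field.toIsField Z.functionField
  have hres : Function.Injective (Z.residue (genericPoint Z)).hom :=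
    letI := hZ.toField
    RingHom.injective _
  letI := (g.residueFieldMap (genericPoint Z)).hom.toAlgebra
  have hsurj : Function.Surjective (g.residueFieldMap (genericPoint Z)).hom := fun b => by
    obtain ⟨c, hc⟩ := exists_smul_eq_of_finrank_eq_one h (one_ne_zero (α := Z.residueField (genericPoint Z))) b
    exact ⟨c, (Algebra.algebraMap_eq_smul_one c).trans hc⟩
  refine (ConcreteCategory.isIso_iff_bijective _).2 ⟨hinj, fun b => ?_⟩
  obtain ⟨c, hc⟩ := hsurj (Z.residue (genericPoint Z) b)
  obtain ⟨a, rfl⟩ := IsLocalRing.residue_surjective c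
  refine ⟨a, hres ?_⟩
  rw [← hc]
  rfl

end Groth.Agent.CSplit23
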